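import Groth.Agent.HomLiftLib.Complete
import Groth.Agent.FlatLiftLib.Main
import Groth.Agent.DiagHopfLib.MonoSurj
import Groth.Agent.DiagRepLib.Scheme
import Groth.Agent.S5243
import Groth.Agent.S5254
import Groth.Agent.S5271

/-!
Smooth models of the multiplicative group: the Hopf algebra side.
-/

set_option autoImplicit false
set_option linter.style.haveILetI false
set_option backward.isDefEq.respectTransparency false
set_option backward.isDefEq.respectTransparency.types false
set_option maxHeartbeats 1000000

noncomputable section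

universe u

open CategoryTheory MonoidalCategory CartesianMonoidalCategory AlgebraicGeometry CoactBr
open scoped MonObj TensorProduct
open Groth.Agent

attribute [-instance] CategoryTheory.Hom.commGroup

namespace GmModel

variable {R : Type u} [CommRing R]

/-- The Hopf algebra of the multiplicative group. -/
abbrev GmAlg (R : Type u) [CommRing R] : Type u := MonoidAlgebra R (Multiplicative ℤ)

theorem isIsotrivial_gmAlg : SGA3b.IsIsotrivial R (GmAlg R) := by
  let f : Multiplicative ℤ →* Multiplicative (ULift.{u} ℤ) :=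
    AddMonoidHom.toMultiplicative (AddEquiv.ulift.symm : ℤ ≃+ ULift.{u} ℤ).toAddMonoidHom
  have hf : Function.Bijective f :=
    ⟨fun a b h => Multiplicative.toAdd.injective (ULift.up_injective (Multiplicative.ofAdd.injective h)),
      fun b => ⟨Multiplicative.ofAdd (Multiplicative.toAdd b).down, rfl⟩⟩
  have hF : Function.Bijective (MonoidAlgebra.mapDomainBialgHom R f) :=
    (MonoidAlgebra.domCongr R R (MulEquiv.ofBijective f hf)).bijective
  exact ⟨R, inferInstance, inferInstance, inferInstance, inferInstance, inferInstance, Multiplicative (ULift.{u} ℤ),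
    inferInstance, ⟨(Bialgebra.TensorProduct.lid R (GmAlg R)).trans (BialgEquiv.ofBijective _ hF)⟩⟩

theorem isMultType_gmAlg : SGA3b.IsMultType R (GmAlg R) :=
  FlatLift.isMultType_of_isQuasiIsotrivial (HomLift.isQuasiIsotrivial_of_isIsotrivial isIsotrivial_gmAlg)

variable {A B : Type u} [CommRing A] [HopfAlgebra R A] [CommRing B] [HopfAlgebra R B]

/-- The ideal of a kernel is a Hopf ideal. -/
theorem isHopfIdeal_map (φ : B →ₐc[R] A) :
    (Ideal.map (φ : B →+* A) (RingHom.ker (Bialgebra.counitAlgHom R B))).IsHopfIdeal R := by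
  set J := Ideal.map (φ : B →+* A) (RingHom.ker (Bialgebra.counitAlgHom R B))
  have hq : ∀ b, Ideal.Quotient.mk J (φ b) = algebraMap R (A ⧸ J) (Coalgebra.counit (R := R) b) := fun b => by
    rw [← Ideal.Quotient.mk_algebraMap, Ideal.Quotient.eq]
    have : φ b - algebraMap R A (Coalgebra.counit (R := R) b) =
        φ (b - algebraMap R B (Coalgebra.counit (R := R) b)) := by rw [map_sub, AlgHomClass.commutes]
    rw [this]
    exact Ideal.mem_map_of_mem (φ : B →+* A) (RingHom.mem_ker.2 (by simp))
  have hε : J ≤ RingHom.ker (Bialgebra.counitAlgHom R A) := Ideal.map_le_iff_le_comap.2 fun b hb => by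
    rw [Ideal.mem_comap, RingHom.mem_ker]
    show Coalgebra.counit (R := R) (φ b) = 0
    rw [CoalgHomClass.counit_comp_apply]
    exact hb
  let M : A →ₐ[R] (A ⧸ J) ⊗[R] (A ⧸ J) :=
    (Algebra.TensorProduct.map (Ideal.Quotient.mkₐ R J) (Ideal.Quotient.mkₐ R J)).comp (Bialgebra.comulAlgHom R A)
  have hM : J ≤ RingHom.ker M := Ideal.map_le_iff_le_comap.2 fun b hb => by
    rw [Ideal.mem_comap, RingHom.mem_ker]
    show Algebra.TensorProduct.map (Ideal.Quotient.mkₐ R J) (Ideal.Quotient.mkₐ R J)
      (CoalgebraStruct.comul (R := R) (φ b)) = 0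
    rw [← CoalgHomClass.map_comp_comul_apply φ]
    have key : ∀ z : B ⊗[R] B, Algebra.TensorProduct.map (Ideal.Quotient.mkₐ R J) (Ideal.Quotient.mkₐ R J)
        (TensorProduct.map (φ : B →ₗ[R] A) (φ : B →ₗ[R] A) z) = algebraMap R _ (Coalgebra.counit (R := R)
          (TensorProduct.lid R B (LinearMap.rTensor B (Coalgebra.counit (R := R)) z))) := fun z => by
      induction z using TensorProduct.induction_on with
      | zero => simp
      | add x y hx hy => simp only [map_add, hx, hy]
      | tmul p q =>
        rw [TensorProduct.map_tmul, Algebra.TensorProduct.map_tmul, Ideal.Quotient.mkₐ_eq_mk,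
          show Ideal.Quotient.mk J ((φ : B →ₗ[R] A) p) = _ from hq p,
          show Ideal.Quotient.mk J ((φ : B →ₗ[R] A) q) = _ from hq q, LinearMap.rTensor_tmul, TensorProduct.lid_tmul,
          map_smul, smul_eq_mul]
        simp [Algebra.algebraMap_eq_smul_one, TensorProduct.smul_tmul', smul_smul, mul_comm,
          Algebra.TensorProduct.one_def]
    rw [key, Coalgebra.rTensor_counit_comul, TensorProduct.lid_tmul, one_smul]
    rw [show Coalgebra.counit (R := R) b = 0 from hb, map_zero]
  have hS : J ≤ J.comap (HopfAlgebra.antipodeAlgHom R A) := Ideal.map_le_iff_le_comap.2 fun b hb => by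
    rw [Ideal.mem_comap, Ideal.mem_comap]
    show HopfAlgebraStruct.antipode (R := R) (φ b) ∈ J
    rw [← DiagHopf.bialgHom_antipode]
    refine Ideal.mem_map_of_mem (φ : B →+* A) ?_
    rw [RingHom.mem_ker] at hb ⊢
    simpa [HopfAlgebra.counit_antipode] using hb
  haveI : (J.restrictScalars R).IsCoideal := by
    refine ⟨fun x hx => hε hx, fun x hx => ?_⟩
    let e := (Submodule.Quotient.restrictScalarsEquiv R J).symm.toLinearMap
    have h : ∀ z : A ⊗[R] A, TensorProduct.map (J.restrictScalars R).mkQ (J.restrictScalars R).mkQ z =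
        TensorProduct.map e e (Algebra.TensorProduct.map (Ideal.Quotient.mkₐ R J) (Ideal.Quotient.mkₐ R J) z) :=
      fun z => by
        induction z using TensorProduct.induction_on with
        | zero => simp
        | add x y hx hy => simp only [map_add, hx, hy]
        | tmul p q => rfl
    rw [h]
    have h0 : M x = 0 := hM hx
    exact (congrArg (TensorProduct.map e e) h0).trans (map_zero _)
  exact ⟨fun x hx => hS hx⟩

/-- A map to a group of multiplicative type which is surjective on the closed fibre is surjective. -/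
theorem surjective_of_residue [IsLocalRing R] [IsNoetherianRing R] [Algebra.FiniteType R B]
    (hB : SGA3b.IsMultType R B) (φ : A →ₐc[R] B)
    (hs : ∀ b, ∃ c, b - φ c ∈ Ideal.map (algebraMap R B) (IsLocalRing.maximalIdeal R)) : Function.Surjective φ := by
  let J : Ideal B := Ideal.map (φ : A →+* B) (RingHom.ker (Bialgebra.counitAlgHom R A))
  haveI : J.IsHopfIdeal R := isHopfIdeal_map φ
  have hJle : J ≤ RingHom.ker (Bialgebra.counitAlgHom R B) := Ideal.map_le_iff_le_comap.2 fun a ha => by
    rw [Ideal.mem_comap, RingHom.mem_ker]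
    show Coalgebra.counit (R := R) (φ a) = 0
    rw [CoalgHomClass.counit_comp_apply]
    exact ha
  let m := Ideal.map (algebraMap R B) (IsLocalRing.maximalIdeal R)
  have hJ : J = RingHom.ker (Bialgebra.counitAlgHom R B) := by
    haveI : IsNoetherianRing B := Algebra.FiniteType.isNoetherianRing R B
    refine Groth.Agent.S5254.result R B inferInstance hB J
      (Algebra.FinitePresentation.of_finiteType.1 inferInstance) (le_antisymm (sup_le_sup_right hJle m) ?_)
    refine sup_le ?_ le_sup_right
    intro b hb
    rw [RingHom.mem_ker] at hb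
    obtain ⟨c, hc⟩ := hs b
    have hεm : ∀ x ∈ m, Coalgebra.counit (R := R) x ∈ IsLocalRing.maximalIdeal R := by
      intro x hx
      have h : m ≤ (IsLocalRing.maximalIdeal R).comap (Bialgebra.counitAlgHom R B) :=
        Ideal.map_le_iff_le_comap.2 fun r hr => by simpa using hr
      exact h hx
    let ε := Coalgebra.counit (R := R) c
    have hεc : ε ∈ IsLocalRing.maximalIdeal R := by
      have h := hεm _ hc
      rw [map_sub, CoalgHomClass.counit_comp_apply] at h
      rw [show Coalgebra.counit (R := R) b = 0 from hb, zero_sub] at h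
      exact neg_mem_iff.1 h
    have hc' : φ (c - algebraMap R A ε) ∈ J :=
      Ideal.mem_map_of_mem (φ : A →+* B) (RingHom.mem_ker.2 (by simp [ε]))
    have e : b = φ (c - algebraMap R A ε) + ((b - φ c) + algebraMap R B ε) := by
      rw [map_sub, AlgHomClass.commutes]; ring
    rw [e]
    exact Submodule.add_mem_sup hc' (m.add_mem hc (Ideal.mem_map_of_mem _ hεc))
  refine Groth.Agent.S5243.result R B hB A φ fun T _ _ x y hxy => ?_
  dsimp only at hxy
  apply pt_injective
  haveI : IsMonHom (pt (φ : A →ₐ[R] B)) := DiagRep.isMonHom_pt _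
    (BialgHom.counitAlgHom_comp φ) (BialgHom.map_comp_comulAlgHom φ)
  obtain ⟨z, hz⟩ := DiagRep.exists_pt (pt x * (pt y)⁻¹)
  have h1 : z.comp (φ : A →ₐ[R] B) = (Algebra.ofId R T).comp (Bialgebra.counitAlgHom R A) := by
    apply pt_injective
    rw [pt_comp, ← hz, MonObj.mul_comp, GrpObj.inv_comp, ← pt_comp, ← pt_comp, hxy, mul_inv_cancel, DiagRep.pt_one]
  have h2 : J ≤ RingHom.ker z := Ideal.map_le_iff_le_comap.2 fun a ha => by
    rw [Ideal.mem_comap, RingHom.mem_ker]
    have h := DFunLike.congr_fun h1 a
    rw [AlgHom.comp_apply, AlgHom.comp_apply] at h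
    refine h.trans ?_
    rw [show Bialgebra.counitAlgHom R A a = 0 from ha, map_zero]
  have h3 : z = (Algebra.ofId R T).comp (Bialgebra.counitAlgHom R B) := by
    ext b
    have hb : b - algebraMap R B (Coalgebra.counit (R := R) b) ∈ J := by
      rw [hJ, RingHom.mem_ker]; simp
    have h := h2 hb
    rw [RingHom.mem_ker, map_sub, AlgHom.commutes, sub_eq_zero] at h
    exact h
  have h4 : pt x * (pt y)⁻¹ = 1 := by rw [hz, h3, DiagRep.pt_one]
  exact mul_inv_eq_one.1 h4

/-- A surjective endomorphism of a noetherian ring is injective. -/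
theorem injective_of_surjective_endo {S : Type u} [CommRing S] [IsNoetherianRing S] (f : S →+* S)
    (hf : Function.Surjective f) : Function.Injective f := by
  let I : ℕ →o Ideal S :=
    ⟨fun n => RingHom.ker (f ^ n), monotone_nat_of_le_succ fun n x hx => by
      rw [RingHom.mem_ker] at hx ⊢
      rw [pow_succ', RingHom.coe_mul, Function.comp_apply, hx, map_zero]⟩
  obtain ⟨n, hn⟩ := monotone_stabilizes_iff_noetherian.mpr (inferInstance : IsNoetherian S S) I
  refine (injective_iff_map_eq_zero f).2 fun a ha => ?_
  obtain ⟨b, rfl⟩ : ∃ b, (f ^ n) b = a := by rw [RingHom.coe_pow]; exact hf.iterate n a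
  have h : b ∈ I n := by
    rw [hn (n + 1) n.le_succ]
    show (f ^ (n + 1)) b = 0
    rw [pow_succ', RingHom.coe_mul, Function.comp_apply, ha]
  exact h

/-- A surjection which is bijective on the generic fibre is bijective on a torsion-free source. -/
theorem bijective_of_generic [IsDomain R] (K : Type u) [Field K] [Algebra R K] [IsFractionRing R K]
    [Module.Flat R A] [Algebra.FiniteType R A] (φ : A →ₐ[R] B) (hφ : Function.Surjective φ)
    (e : K ⊗[R] B ≃+* K ⊗[R] A) : Function.Bijective φ := by
  refine ⟨?_, hφ⟩
  let φK : K ⊗[R] A →ₐ[K] K ⊗[R] B := Algebra.TensorProduct.map (AlgHom.id K K) φ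
  have hφK : Function.Surjective φK := fun z => by
    induction z using TensorProduct.induction_on with
    | zero => exact ⟨0, map_zero _⟩
    | tmul x y => obtain ⟨a, rfl⟩ := hφ y; exact ⟨x ⊗ₜ a, Algebra.TensorProduct.map_tmul _ _ _ _⟩
    | add x y hx hy => obtain ⟨a, rfl⟩ := hx; obtain ⟨b, rfl⟩ := hy; exact ⟨a + b, map_add _ _ _⟩
  haveI : IsNoetherianRing (K ⊗[R] A) := Algebra.FiniteType.isNoetherianRing K _
  have hinj : Function.Injective φK := by
    have h : Function.Injective (e.toRingHom.comp φK.toRingHom) :=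
      injective_of_surjective_endo _ (e.surjective.comp hφK)
    exact fun a b hab => h (congrArg e hab)
  intro a b hab
  have h : ((1 : K) ⊗ₜ[R] a : K ⊗[R] A) = 1 ⊗ₜ[R] b :=
    hinj (by simp [φK, hab])
  exact Algebra.TensorProduct.includeRight_injective (R := R) (A := K) (B := A) (IsFractionRing.injective R K) h

end GmModel

end
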